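import Mathlib
import Cfsg.Prelude.Def_FusionSystem
import Cfsg.Agent.H802.FusBasic

/-!
# S5258 and its relatives: the generic engine (exact statements)

`Γ` is `Aut_F(E)` for an essential subgroup `E`. Plan: `outputs/live/tools/plans/S5258.md`.
-/

set_option autoImplicit false

namespace Cfsg.Agent.H756.PU

open Cfsg Cfsg.FusionSystem

universe u v

section
variable {Ω : Type*} [Group Ω]

/-- the automorphism `α` of `E` is conjugation by `x` -/
def IsC (x : Ω) {E : Subgroup Ω} (α : MulAut E) : Prop := ∀ e : E, ((α e : E) : Ω) = x * e * x⁻¹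

/-- `M ≤ E` is invariant under `Γ ≤ Aut(E)` -/
def Inv {E : Subgroup Ω} (Γ : Subgroup (MulAut E)) (M : Subgroup Ω) : Prop :=
  M ≤ E ∧ ∀ γ ∈ Γ, ∀ e : E, (e : Ω) ∈ M → ((γ e : E) : Ω) ∈ M

/-- the subgroup generated by the `Γ`-images of `X ∩ E` -/
def hull {E : Subgroup Ω} (Γ : Subgroup (MulAut E)) (X : Subgroup Ω) : Subgroup Ω :=
  Subgroup.closure {y : Ω | ∃ γ ∈ Γ, ∃ e : E, (e : Ω) ∈ X ∧ y = ((γ e : E) : Ω)}

/-- `[A, M] ≤ N`, elementwise -/
def Com (A M N : Subgroup Ω) : Prop := ∀ a ∈ A, ∀ m ∈ M, a * m * a⁻¹ * m⁻¹ ∈ N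

/-- the elements of `M` centralized modulo `N` by `A` (a subgroup as soon as `A` normalizes `M` and `N ⊴ M`) -/
def cmod (A M N : Subgroup Ω) : Subgroup Ω :=
  Subgroup.closure {m : Ω | m ∈ M ∧ ∀ a ∈ A, a * m * a⁻¹ * m⁻¹ ∈ N}

/-- `[M, A]` -/
def comG (A M : Subgroup Ω) : Subgroup Ω :=
  Subgroup.closure {y : Ω | ∃ a ∈ A, ∃ m ∈ M, y = a * m * a⁻¹ * m⁻¹}

/-- `E` behaves like an essential subgroup of the finite `p`-group `S` with `Aut_F(E) = Γ`: `C_S(E) ≤ E`, `Aut_S(E)` is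
a Sylow `p`-subgroup of `Γ`, and `Γ / Inn(E)` has a strongly `p`-embedded subgroup `H / Inn(E)` containing `Out_S(E)`. -/
structure Ess (S E : Subgroup Ω) (p : ℕ) (Γ : Subgroup (MulAut E)) : Prop where
  pp : p.Prime
  fin : Finite S
  pgr : IsPGroup p S
  E_le : E ≤ S
  cent : ∀ x ∈ S, (∀ e ∈ E, x * e = e * x) → x ∈ E
  indu : autInducedBy S E ≤ Γ
  /-- every `p`-subgroup of `Γ` is conjugate into `Aut_S(E)` -/
  syl : ∀ P : Subgroup (MulAut E), P ≤ Γ → IsPGroup p P →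
    ∃ g ∈ Γ, ∀ x ∈ P, g * x * g⁻¹ ∈ autInducedBy S E
  spe : ∃ H : Subgroup (MulAut E), H ≤ Γ ∧ H ≠ Γ ∧ autInducedBy S E ≤ H ∧
    ¬ autInducedBy S E ≤ Inn E ∧
    ∀ g ∈ Γ, g ∉ H → ∀ x ∈ H, g * x * g⁻¹ ∈ H → (∃ k : ℕ, x ^ p ^ k = 1) → x ∈ Inn E

end

/-! ### The engine -/

/-- (G0) essential subgroups give `Ess` -/
def StEss : Prop :=
  ∀ {Ω : Type u} [Group Ω] {S : Subgroup Ω} [Finite S] {p : ℕ} [Fact p.Prime] (F : FusionSystem S) (E : Subgroup Ω),
    IsPGroup p S → F.IsSaturated p → F.IsEssential p E → Ess S E p (F.autGroup E)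

/-- (G1) stabilizers of a chain of invariant subgroups lie in `E` -/
def StChain : Prop :=
  ∀ {Ω : Type u} [Group Ω] {S E : Subgroup Ω} {p : ℕ} {Γ : Subgroup (MulAut E)}, Ess S E p Γ →
    ∀ M1 M2 M3 : Subgroup Ω, Inv Γ M1 → Inv Γ M2 → Inv Γ M3 → M1 ≤ M2 → M2 ≤ M3 →
    ∀ X : Subgroup Ω, X ≤ S → Com X E M3 → Com X M3 M2 → Com X M2 M1 → (∀ x ∈ X, ∀ m ∈ M1, x * m = m * x) → X ≤ E

/-- (G2) the failure-of-factorization lemma. `N ≤ M` are invariant, `M/N` is elementary abelian and central in `E/N`,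
generated modulo `N` by the images of a subgroup `X` with `[X, N_S(E)] ≤ N`; `A ≤ N_S(E)`, `A ≰ E` stabilizes
`E ≥ M`, `N ≥ 1`, `A` is elementary abelian modulo `E` and `|M : C_M(A mod N)| ≤ |A : A ∩ E|`. -/
def StFF : Prop :=
  ∀ {Ω : Type u} [Group Ω] {S E : Subgroup Ω} {p : ℕ} {Γ : Subgroup (MulAut E)}, Ess S E p Γ →
    ∀ N M X A : Subgroup Ω, Inv Γ N → Inv Γ M → N ≤ M → X ≤ M → Com E M N → (∀ m ∈ M, m ^ p ∈ N) →
    M = hull Γ X ⊔ N → Com (normalizerIn S E) X N →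
    A ≤ normalizerIn S E → ¬ A ≤ E → Com A A E → (∀ x ∈ A, x ^ p ∈ E) → Com A E M →
    (∀ x ∈ A, ∀ m ∈ N, x * m = m * x) →
    (cmod A M N).relIndex M ≤ E.relIndex A →
    normalizerIn S E = E ⊔ A ∧ (cmod A M N).relIndex M = E.relIndex A ∧
    (∀ D : Subgroup Ω, Inv Γ D → N ≤ D → D ≤ M → Com A D N → E.relIndex A ≤ D.relIndex (comG A M ⊔ N))

/-- (G3) the commuting lemma: if the conjugates of `Aut_A(E)` by elements of `Γ` outside `Γ₀` commute with `Aut_A(E)`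
then `Γ ≤ Γ₀` -/
def StComm : Prop :=
  ∀ {Ω : Type u} [Group Ω] {S E : Subgroup Ω} {p : ℕ} {Γ : Subgroup (MulAut E)}, Ess S E p Γ →
    ∀ (Γ0 : Subgroup (MulAut E)) (A : Subgroup Ω), A ≤ normalizerIn S E → ¬ A ≤ E →
    (∀ g ∈ Γ, g ∉ Γ0 → ∀ a ∈ A, ∀ b ∈ A, ∀ α β : MulAut E, IsC a α → IsC b β →
      α * (g * β * g⁻¹) = (g * β * g⁻¹) * α) → Γ ≤ Γ0

/-- (G4) `|N_S(E)/E|² ≤ |E/Φ(E)| ≤ |E|` (from S3083) -/
def StBound : Prop :=
  ∀ {Ω : Type u} [Group Ω] {S E : Subgroup Ω} {p : ℕ} {Γ : Subgroup (MulAut E)}, Ess S E p Γ →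
    (E.relIndex (normalizerIn S E)) ^ 2 ≤ Nat.card E

/-- (G4') more precisely: for every normal subgroup `B` of `E` with `E/B` elementary abelian... the invariant Frattini
bound: if `Φ(E) ≤ B` is false this is not needed; here `B` is any `Γ`-invariant subgroup contained in `Φ(E)` -/
def StBound' : Prop :=
  ∀ {Ω : Type u} [Group Ω] {S E : Subgroup Ω} {p : ℕ} {Γ : Subgroup (MulAut E)}, Ess S E p Γ →
    (E.relIndex (normalizerIn S E)) ^ 2 ≤ (frattini E).index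

/-- (G5) a section of order `< |T|²` on which the Sylow subgroup acts "TI": `C0/N = C_{M/N}(s)` for all `s ∈ S` acting
nontrivially; then `C0` is invariant (from S3083) -/
def StSec : Prop :=
  ∀ {Ω : Type u} [Group Ω] {S E : Subgroup Ω} {p : ℕ} {Γ : Subgroup (MulAut E)}, Ess S E p Γ →
    S ≤ Subgroup.normalizer (E : Set Ω) →
    ∀ N M C0 CS : Subgroup Ω, Inv Γ N → Inv Γ M → N ≤ C0 → C0 ≤ M → Com E M N → (∀ m ∈ M, m ^ p ∈ N) →
    CS ≤ S → E ≤ CS → (∀ s ∈ S, s ∈ CS ↔ ∀ m ∈ M, s * m * s⁻¹ * m⁻¹ ∈ N) →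
    Com S M C0 → Com S C0 N →
    (∀ s ∈ S, s ∉ CS → ∀ m ∈ M, s * m * s⁻¹ * m⁻¹ ∈ N → m ∈ C0) →
    N.relIndex M < (CS.relIndex S) ^ 2 → Inv Γ C0

/-- `γ` normalizes `Aut_S(Q)` -/
def NormAut {Ω : Type*} [Group Ω] (S : Subgroup Ω) {Q : Subgroup Ω} (γ : MulAut Q) : Prop :=
  ∀ x ∈ autInducedBy S Q, γ * x * γ⁻¹ ∈ autInducedBy S Q

/-- `Aut_S(Q)` is TI modulo `Inn(Q)` in `Γ` -/
def TIAut {Ω : Type*} [Group Ω] (S : Subgroup Ω) {Q : Subgroup Ω} (Γ : Subgroup (MulAut Q)) : Prop :=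
  ∀ γ ∈ Γ, ∀ x ∈ autInducedBy S Q, x ∉ Inn Q → γ * x * γ⁻¹ ∈ autInducedBy S Q → NormAut S γ

/-- (G6) an essential subgroup containing an invariant TI-subgroup `Q` is `Q` -/
def StOver : Prop :=
  ∀ {Ω : Type u} [Group Ω] {S : Subgroup Ω} [Finite S] {p : ℕ} [Fact p.Prime] (F : FusionSystem S) (Q E : Subgroup Ω),
    IsPGroup p S → F.IsSaturated p → F.IsEssential p E → Q ≤ E → S ≤ Subgroup.normalizer (Q : Set Ω) →
    centralizerIn S Q ≤ Q → TIAut S (F.autGroup Q) → Inv (F.autGroup E) Q → E = Q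

/-- (G7) if `Q ⊴ S` is centric, invariant under `Aut_F(S)`, and `Q` is the only possible essential subgroup (or there is none),
then `F` is realizable (constrained). -/
def StCon : Prop :=
  ∀ {Ω : Type u} [Group Ω] {S : Subgroup Ω} [Finite S] {p : ℕ} [Fact p.Prime] (F : FusionSystem S) (Q : Subgroup Ω),
    IsPGroup p S → F.IsSaturated p → Q ≤ S → S ≤ Subgroup.normalizer (Q : Set Ω) → centralizerIn S Q ≤ Q →
    (∀ E, F.IsEssential p E → E = Q) → Inv (F.autGroup S) Q → F.IsRealizable p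

/-- (G8) TI and not normal implies essential -/
def StTIEss : Prop :=
  ∀ {Ω : Type u} [Group Ω] {S : Subgroup Ω} [Finite S] {p : ℕ} [Fact p.Prime] (F : FusionSystem S) (Q : Subgroup Ω),
    IsPGroup p S → F.IsSaturated p → Q ≤ S → Q ≠ S → S ≤ Subgroup.normalizer (Q : Set Ω) → centralizerIn S Q ≤ Q →
    TIAut S (F.autGroup Q) → ¬ (∀ γ ∈ F.autGroup Q, NormAut S γ) → F.IsEssential p Q

/-- (G9) two saturated systems over `S` whose essential subgroups are among `Q1`, `Q2` and with the same automizers of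
`S`, `Q1`, `Q2` are equal -/
def StSame : Prop :=
  ∀ {Ω : Type u} [Group Ω] {S : Subgroup Ω} [Finite S] {p : ℕ} [Fact p.Prime] (F F' : FusionSystem S)
    (Q1 Q2 : Subgroup Ω), IsPGroup p S → F.IsSaturated p → F'.IsSaturated p → Q1 ≤ S → Q2 ≤ S →
    (∀ E, F.IsEssential p E → E = Q1 ∨ E = Q2) → (∀ E, F'.IsEssential p E → E = Q1 ∨ E = Q2) →
    F.autGroup S = F'.autGroup S → F.autGroup Q1 = F'.autGroup Q1 → F.autGroup Q2 = F'.autGroup Q2 →
    ∀ P, F.Hom P = F'.Hom P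

/-- (G10) uniqueness of lifts: `C` is a normal abelian `p`-subgroup of `Lam C`, `L` and `L'` have the same image modulo `C`
and the same intersection `I` with `C`, share a Sylow `p`-subgroup `P`, and are both normalized by a `p'`-group `H` acting
on `C` without fixed points; then `L = L'`. -/
def StLift : Prop :=
  ∀ {G : Type u} [Group G] [Finite G] {p : ℕ} [Fact p.Prime] (C L L' P H : Subgroup G),
    C.Normal → (∀ x ∈ C, ∀ y ∈ C, x * y = y * x) → IsPGroup p C → L ⊔ C = L' ⊔ C → L ⊓ C = L' ⊓ C →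
    P ≤ L → P ≤ L' → L ⊓ C ≤ P → ¬ p ∣ P.relIndex L →
    L ≤ Subgroup.normalizer ((L ⊓ C : Subgroup G) : Set G) → C ≤ Subgroup.normalizer ((L ⊓ C : Subgroup G) : Set G) →
    H ≤ Subgroup.normalizer (L : Set G) → H ≤ Subgroup.normalizer (L' : Set G) →
    (Nat.card H).Coprime p → (∀ c ∈ C, (∀ h ∈ H, h * c = c * h) → c = 1) → L = L'

/-- (G11) transport of a fusion system along an isomorphism `S ≃* G0` to the whole group `G0`; realizability and saturation are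
preserved (two universes: finite groups can be moved with `Fin n`) -/
def StTrans : Prop :=
  ∀ {Ω : Type u} [Group Ω] {S : Subgroup Ω} [Finite S] {p : ℕ} [Fact p.Prime] (F : FusionSystem S)
    {G0 : Type v} [Group G0] (_ : S ≃* G0), F.IsSaturated p →
    ∃ F' : FusionSystem (⊤ : Subgroup G0), F'.IsSaturated p ∧ (F'.IsRealizable p → F.IsRealizable p)

/-- `Aut_F(G0)` as a group of automorphisms of `G0`, for a system over the whole group -/
def AF {G0 : Type*} [Group G0] (F : FusionSystem (⊤ : Subgroup G0)) : Subgroup (MulAut G0) :=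
  (F.autGroup ⊤).map (MulAut.congr Subgroup.topEquiv).toMonoidHom

/-- (G12) twisting a system over the whole group `G0` by an automorphism of `G0` -/
def StTwist : Prop :=
  ∀ {G0 : Type u} [Group G0] [Finite G0] {p : ℕ} [Fact p.Prime] (F : FusionSystem (⊤ : Subgroup G0)) (θ : MulAut G0),
    F.IsSaturated p →
    ∃ F' : FusionSystem (⊤ : Subgroup G0), F'.IsSaturated p ∧ (F'.IsRealizable p → F.IsRealizable p) ∧
      AF F' = (AF F).map (MulAut.conj θ).toMonoidHom ∧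
      ∀ E : Subgroup G0, F.IsEssential p E ↔ F'.IsEssential p (E.map θ.toMonoidHom)

/-- (G13) `Inn(G0)` has a `p'`-complement in `Aut_F(G0)` -/
def StCompl : Prop :=
  ∀ {G0 : Type u} [Group G0] [Finite G0] {p : ℕ} [Fact p.Prime] (F : FusionSystem (⊤ : Subgroup G0)),
    IsPGroup p (⊤ : Subgroup G0) → F.IsSaturated p →
    ∃ D : Subgroup (MulAut G0), (Nat.card D).Coprime p ∧ (MulAut.conj : G0 →* MulAut G0).range ⊔ D = AF F

end Cfsg.Agent.H756.PU
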