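import Cfsg.Agent.H756.PU.Grp
import Cfsg.Agent.H756.PU.Engine
import Cfsg.Prelude.Def_Classical

/-!
# S5258: the concrete statements

Plan: `outputs/live/tools/plans/S5258.md`.
-/

set_option autoImplicit false

namespace Cfsg.Agent.H756.PU

open Cfsg Cfsg.FusionSystem

universe u v

/-- the field: `K` has `q²` elements, `q = pⁿ`, `star x = x^q` -/
structure HypK (K : Type u) [Field K] [StarRing K] (p n : ℕ) : Prop where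
  pp : p.Prime
  hn : 1 ≤ n
  fin : Finite K
  card : Nat.card K = (p ^ n) ^ 2
  char : CharP K p
  star_eq : ∀ x : K, star x = x ^ (p ^ n)

section
variable (K : Type u) [Field K] [StarRing K]

/-- `Z = Z(S)`, of order `q` -/
def ZS : Subgroup (UG K) where
  carrier := {g | g.r = 0 ∧ g.u1 = 0 ∧ g.u2 = 0 ∧ g.b = 0 ∧ g.c = 0}
  one_mem' := by simp
  mul_mem' := by
    rintro x y ⟨h1, h2, h3, h4, h5⟩ ⟨k1, k2, k3, k4, k5⟩
    simp [UG.mul_b, h1, h2, h3, h4, h5, k1, k2, k3, k4, k5]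
  inv_mem' := by
    rintro x ⟨h1, h2, h3, h4, h5⟩
    simp [UG.inv_b, UG.d, h1, h2, h3, h4, h5]

/-- `Z₂ = Z₂(S)`, elementary abelian of order `q³` -/
def Z2 : Subgroup (UG K) where
  carrier := {g | g.r = 0 ∧ g.u1 = 0 ∧ g.u2 = 0 ∧ g.c = 0}
  one_mem' := by simp
  mul_mem' := by
    rintro x y ⟨h1, h2, h3, h5⟩ ⟨k1, k2, k3, k5⟩
    simp [h1, h2, h3, h5, k1, k2, k3, k5]
  inv_mem' := by
    rintro x ⟨h1, h2, h3, h5⟩
    simp [h1, h2, h3, h5]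

/-- `V = Z(Q₂)`, elementary abelian of order `q⁴` -/
def VV : Subgroup (UG K) where
  carrier := {g | g.r = 0 ∧ g.u1 = 0 ∧ g.u2 = 0}
  one_mem' := by simp
  mul_mem' := by
    rintro x y ⟨h1, h2, h3⟩ ⟨k1, k2, k3⟩
    simp [h1, h2, h3, k1, k2, k3]
  inv_mem' := by
    rintro x ⟨h1, h2, h3⟩
    simp [h1, h2, h3]

/-- `Y = Z₃(S) = S'`, of order `q⁶` -/
def YY : Subgroup (UG K) where
  carrier := {g | g.r = 0 ∧ g.u2 = 0}
  one_mem' := by simp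
  mul_mem' := by
    rintro x y ⟨h1, h3⟩ ⟨k1, k3⟩
    simp [h1, h3, k1, k3]
  inv_mem' := by
    rintro x ⟨h1, h3⟩
    simp [h1, h3]

/-- `Q₂ = C_S(Z₂)`, of order `q⁸` -/
def Q2 : Subgroup (UG K) where
  carrier := {g | g.r = 0}
  one_mem' := by simp
  mul_mem' := by
    rintro x y h1 k1
    have h1' : x.r = 0 := h1
    have k1' : y.r = 0 := k1
    simp [h1', k1']
  inv_mem' := by
    rintro x h1
    have h1' : x.r = 0 := h1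
    simp [h1']

/-- `Q₁ = q^{1+6}` -/
def Q1 : Subgroup (UG K) where
  carrier := {g | g.u2 = 0 ∧ g.c = 0}
  one_mem' := by simp
  mul_mem' := by
    rintro x y ⟨h1, h3⟩ ⟨k1, k3⟩
    simp [h1, h3, k1, k3]
  inv_mem' := by
    rintro x ⟨h1, h3⟩
    simp [h1, h3]

/-- `Q₁V`, of order `q⁸` -/
def QV : Subgroup (UG K) where
  carrier := {g | g.u2 = 0}
  one_mem' := by simp
  mul_mem' := by
    rintro x y h1 k1
    have h1' : x.u2 = 0 := h1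
    have k1' : y.u2 = 0 := k1
    simp [h1', k1']
  inv_mem' := by
    rintro x h1
    have h1' : x.u2 = 0 := h1
    simp [h1']

/-- `Y₁ = Q₁ ∩ Q₂`, of order `q⁵` -/
def Y1 : Subgroup (UG K) := Q1 K ⊓ Q2 K

end

/-! ### The standard torus with field automorphisms -/

section
variable {K : Type u} [Field K] [StarRing K]

/-- `α` is the automorphism of `UG K` induced by `diag(x1, x2, 1, ..)` after the field automorphism `τ` -/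
structure IsTor (α : MulAut (UG K)) (x1 x2 : K) (τ : K ≃+* K) : Prop where
  ne1 : x1 ≠ 0
  ne2 : x2 ≠ 0
  tst : ∀ x, τ (star x) = star (τ x)
  r : ∀ g : UG K, (α g).r = x1 * x2⁻¹ * τ g.r
  u1 : ∀ g : UG K, (α g).u1 = x1 * τ g.u1
  u2 : ∀ g : UG K, (α g).u2 = x2 * τ g.u2
  a : ∀ g : UG K, (α g).a = x1 * star x1 * τ g.a
  b : ∀ g : UG K, (α g).b = x1 * star x2 * τ g.b
  c : ∀ g : UG K, (α g).c = x2 * star x2 * τ g.c

variable (K) in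
/-- the group of all these automorphisms (task PU-TOR: the closure is the set itself) -/
def TT : Subgroup (MulAut (UG K)) := Subgroup.closure {α | ∃ x1 x2 τ, IsTor α x1 x2 τ}

/-- `γ` is the restriction of `α` to `Q` -/
def IsR (α : MulAut (UG K)) {Q : Subgroup (UG K)} (γ : MulAut Q) : Prop := ∀ e : Q, ((γ e : Q) : UG K) = α e

/-- the Weyl element of `SL₂(K)` on `Q₂` -/
structure IsW2 (γ : MulAut (Q2 K)) : Prop where
  u1 : ∀ e : Q2 K, ((γ e : Q2 K) : UG K).u1 = (e : UG K).u2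
  u2 : ∀ e : Q2 K, ((γ e : Q2 K) : UG K).u2 = - (e : UG K).u1
  a : ∀ e : Q2 K, ((γ e : Q2 K) : UG K).a = (e : UG K).c
  b : ∀ e : Q2 K, ((γ e : Q2 K) : UG K).b = - (e : UG K).d
  c : ∀ e : Q2 K, ((γ e : Q2 K) : UG K).c = (e : UG K).a

/-- the Weyl element of `SU₃(K)` on `Q₁` -/
structure IsW1 (κ : K) (γ : MulAut (Q1 K)) : Prop where
  ne : κ ≠ 0
  tr : κ + star κ = 0
  r : ∀ e : Q1 K, ((γ e : Q1 K) : UG K).r = - κ⁻¹ * (e : UG K).b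
  u1 : ∀ e : Q1 K, ((γ e : Q1 K) : UG K).u1 = (e : UG K).u1
  a : ∀ e : Q1 K, ((γ e : Q1 K) : UG K).a =
    (e : UG K).a - star (e : UG K).r * (e : UG K).b + (e : UG K).r * star (e : UG K).b
  b : ∀ e : Q1 K, ((γ e : Q1 K) : UG K).b = κ * (e : UG K).r

variable (K) in
/-- `Inn(Q₂) SL₂(K)` -/
def Lam2 : Subgroup (MulAut (Q2 K)) := autInducedBy ⊤ (Q2 K) ⊔ Subgroup.closure {γ | IsW2 γ}

variable (K) in
/-- `Inn(Q₁) SU₃(K)` -/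
def Lam1 : Subgroup (MulAut (Q1 K)) := autInducedBy ⊤ (Q1 K) ⊔ Subgroup.closure {γ | ∃ κ, IsW1 κ γ}

/-- `Γ = Aut_F(Q)` for a parabolic `Q` whose Sylow subgroup is not normal, and `D` the `p'`-part of `Aut_F(S)` -/
structure Par (p : ℕ) (Q : Subgroup (UG K)) (Γ : Subgroup (MulAut Q)) (D : Subgroup (MulAut (UG K))) : Prop where
  indu : autInducedBy ⊤ Q ≤ Γ
  syl : ∀ P : Subgroup (MulAut Q), P ≤ Γ → IsPGroup p P → ∃ g ∈ Γ, ∀ x ∈ P, g * x * g⁻¹ ∈ autInducedBy ⊤ Q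
  nn : ¬ ∀ γ ∈ Γ, NormAut ⊤ γ
  D_le : D ≤ TT K
  D_cop : (Nat.card D).Coprime p
  D_res : ∀ d ∈ D, ∀ γ : MulAut Q, IsR d γ → γ ∈ Γ
  norm : ∀ γ ∈ Γ, NormAut ⊤ γ → ∃ x : UG K, ∃ d ∈ D, ∀ e : Q, ((γ e : Q) : UG K) = x * d e * x⁻¹

/-- `D` contains all the automorphisms `tor(f t, g t)`, `t ≠ 0` -/
def HasTor (D : Subgroup (MulAut (UG K))) (f g : K → K) : Prop :=
  ∀ t : K, t ≠ 0 → ∀ α : MulAut (UG K), IsTor α (f t) (g t) (RingEquiv.refl K) → α ∈ D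

end

/-! ### Essential subgroups of `UG K` -/

/-- (E1) -/
def StE1 : Prop :=
  ∀ {K : Type u} [Field K] [StarRing K] {p n : ℕ}, HypK K p n →
    ∀ {E : Subgroup (UG K)} {Γ : Subgroup (MulAut E)}, Ess (⊤ : Subgroup (UG K)) E p Γ → Z2 K ≤ E

/-- (E2) -/
def StE2 : Prop :=
  ∀ {K : Type u} [Field K] [StarRing K] {p n : ℕ}, HypK K p n →
    ∀ {E : Subgroup (UG K)} {Γ : Subgroup (MulAut E)}, Ess (⊤ : Subgroup (UG K)) E p Γ → Z2 K ≤ E →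
    ¬ VV K ≤ E → Inv Γ (ZS K)

/-- (E3a) -/
def StE3a : Prop :=
  ∀ {K : Type u} [Field K] [StarRing K] {p n : ℕ}, HypK K p n →
    ∀ {E : Subgroup (UG K)} {Γ : Subgroup (MulAut E)}, Ess (⊤ : Subgroup (UG K)) E p Γ → Z2 K ≤ E →
    Inv Γ (ZS K) → ¬ Q1 K ≤ E → ¬ E ≤ QV K

/-- (E3b) -/
def StE3b : Prop :=
  ∀ {K : Type u} [Field K] [StarRing K] {p n : ℕ}, HypK K p n →
    ∀ {E : Subgroup (UG K)} {Γ : Subgroup (MulAut E)}, Ess (⊤ : Subgroup (UG K)) E p Γ → Z2 K ≤ E →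
    Inv Γ (ZS K) → ¬ Q1 K ≤ E → ¬ E ≤ QV K → Y1 K ≤ E

/-- (E3c) -/
def StE3c : Prop :=
  ∀ {K : Type u} [Field K] [StarRing K] {p n : ℕ}, HypK K p n →
    ∀ {E : Subgroup (UG K)} {Γ : Subgroup (MulAut E)}, Ess (⊤ : Subgroup (UG K)) E p Γ → Z2 K ≤ E →
    Inv Γ (ZS K) → ¬ Q1 K ≤ E → ¬ E ≤ QV K → Y1 K ≤ E → VV K ≤ E

/-- (E3d) -/
def StE3d : Prop :=
  ∀ {K : Type u} [Field K] [StarRing K] {p n : ℕ}, HypK K p n →
    ∀ {E : Subgroup (UG K)} {Γ : Subgroup (MulAut E)}, Ess (⊤ : Subgroup (UG K)) E p Γ → YY K ≤ E →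
    Inv Γ (ZS K) → ¬ E ≤ QV K → Inv Γ (Z2 K)

/-- (E3e) -/
def StE3e : Prop :=
  ∀ {K : Type u} [Field K] [StarRing K] {p n : ℕ}, HypK K p n →
    ∀ {E : Subgroup (UG K)} {Γ : Subgroup (MulAut E)}, Ess (⊤ : Subgroup (UG K)) E p Γ → YY K ≤ E →
    Inv Γ (Z2 K) → Q2 K ≤ E ∧ Inv Γ (Q2 K)

/-- (E3f) -/
def StE3f : Prop :=
  ∀ {K : Type u} [Field K] [StarRing K] {p n : ℕ}, HypK K p n →
    ∀ {E : Subgroup (UG K)} {Γ : Subgroup (MulAut E)}, Ess (⊤ : Subgroup (UG K)) E p Γ →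
    Inv Γ (ZS K) → Q1 K ≤ E → Inv Γ (Q1 K)

/-- (E4a) -/
def StE4a : Prop :=
  ∀ {K : Type u} [Field K] [StarRing K] {p n : ℕ}, HypK K p n →
    ∀ {E : Subgroup (UG K)} {Γ : Subgroup (MulAut E)}, Ess (⊤ : Subgroup (UG K)) E p Γ → VV K ≤ E → E ≤ Q2 K →
    E = Q2 K

/-- (E4b) -/
def StE4b : Prop :=
  ∀ {K : Type u} [Field K] [StarRing K] {p n : ℕ}, HypK K p n →
    ∀ {E : Subgroup (UG K)} {Γ : Subgroup (MulAut E)}, Ess (⊤ : Subgroup (UG K)) E p Γ → VV K ≤ E → ¬ E ≤ Q2 K →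
    ¬ Inv Γ (ZS K) → YY K ≤ E

/-- (E4c) -/
def StE4c : Prop :=
  ∀ {K : Type u} [Field K] [StarRing K] {p n : ℕ}, HypK K p n →
    ∀ {E : Subgroup (UG K)} {Γ : Subgroup (MulAut E)}, Ess (⊤ : Subgroup (UG K)) E p Γ → YY K ≤ E → ¬ E ≤ Q2 K →
    ¬ Inv Γ (ZS K) → Q2 K ≤ E ∧ Inv Γ (Q2 K)

/-! ### The parabolics -/

/-- (TI) `Aut_S(Q)` is TI modulo `Inn(Q)` as soon as it is a Sylow subgroup, `Q = Q₁, Q₂`; `Q` is centric and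
invariant under all automorphisms of `UG K` -/
def StTI : Prop :=
  ∀ {K : Type u} [Field K] [StarRing K] {p n : ℕ}, HypK K p n → ∀ Q : Subgroup (UG K), (Q = Q1 K ∨ Q = Q2 K) →
    (∀ Γ : Subgroup (MulAut Q), autInducedBy ⊤ Q ≤ Γ →
      (∀ P : Subgroup (MulAut Q), P ≤ Γ → IsPGroup p P → ∃ g ∈ Γ, ∀ x ∈ P, g * x * g⁻¹ ∈ autInducedBy ⊤ Q) →
      TIAut (⊤ : Subgroup (UG K)) Γ) ∧
    centralizerIn ⊤ Q ≤ Q ∧ Q ≠ ⊤ ∧ (∀ α : MulAut (UG K), Q.map α.toMonoidHom = Q)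

/-- (GRP) `UG K` is a finite `p`-group of order `q^10`; all the automorphisms exist -/
def StGrp : Prop :=
  ∀ {K : Type u} [Field K] [StarRing K] {p n : ℕ}, HypK K p n →
    Nat.card (UG K) = (p ^ n) ^ 10 ∧ IsPGroup p (⊤ : Subgroup (UG K)) ∧
    (∀ (x1 x2 : K) (τ : K ≃+* K), x1 ≠ 0 → x2 ≠ 0 → ∃ α, IsTor α x1 x2 τ) ∧
    (∀ α ∈ TT K, ∃ x1 x2 τ, IsTor α x1 x2 τ) ∧
    (∃ γ : MulAut (Q2 K), IsW2 γ) ∧ (∀ κ : K, κ ≠ 0 → κ + star κ = 0 → ∃ γ : MulAut (Q1 K), IsW1 κ γ)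

/-- (POS) every `p'`-group of automorphisms of `UG K` is conjugate into `TT K` -/
def StPos : Prop :=
  ∀ {K : Type u} [Field K] [StarRing K] {p n : ℕ}, HypK K p n → ∀ D : Subgroup (MulAut (UG K)),
    (Nat.card D).Coprime p → ∃ θ : MulAut (UG K), ∀ d ∈ D, θ * d * θ⁻¹ ∈ TT K

/-- (L2a) the action on `U = Q₂/V` -/
def StL2a : Prop :=
  ∀ {K : Type u} [Field K] [StarRing K] {p n : ℕ}, HypK K p n →
    ∀ (Γ : Subgroup (MulAut (Q2 K))) (D : Subgroup (MulAut (UG K))), Par p (Q2 K) Γ D →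
    (p ^ n = 2 → HasTor D (fun t => t) (fun _ => 1)) →
    HasTor D (fun t => t) (fun t => t⁻¹) ∧
    (∀ l ∈ Lam2 K, ∃ γ ∈ Γ, ∀ e : Q2 K, ((γ e : Q2 K) : UG K).u1 = ((l e : Q2 K) : UG K).u1 ∧
      ((γ e : Q2 K) : UG K).u2 = ((l e : Q2 K) : UG K).u2) ∧
    (∀ γ ∈ Γ, ∃ l ∈ Lam2 K, ∃ d ∈ D, ∃ δ : MulAut (Q2 K), IsR d δ ∧
      ∀ e : Q2 K, ((γ e : Q2 K) : UG K).u1 = (((l * δ) e : Q2 K) : UG K).u1 ∧
      ((γ e : Q2 K) : UG K).u2 = (((l * δ) e : Q2 K) : UG K).u2)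

/-- (L2) -/
def StL2 : Prop :=
  ∀ {K : Type u} [Field K] [StarRing K] {p n : ℕ}, HypK K p n →
    ∀ (Γ : Subgroup (MulAut (Q2 K))) (D : Subgroup (MulAut (UG K))), Par p (Q2 K) Γ D →
    (p ^ n = 2 → HasTor D (fun t => t) (fun _ => 1)) →
    HasTor D (fun t => t) (fun t => t⁻¹) ∧
    (∀ γ : MulAut (Q2 K), γ ∈ Γ ↔ ∃ l ∈ Lam2 K, ∃ d ∈ D, ∃ δ : MulAut (Q2 K), IsR d δ ∧ γ = l * δ)

/-- (U3) the abstract rank one identification: a finite group with a non-normal TI Sylow `p`-subgroup that looks like that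
of `SU₃(q)`, `q = pⁿ > 2`, acting on a group of order `q⁶` -/
def StU3 : Prop :=
  ∀ {G : Type u} [Group G] [Finite G] {p n : ℕ} [Fact p.Prime] (P : Sylow p G), 1 ≤ n → 2 < p ^ n →
    (∀ g : G, g ∉ Subgroup.normalizer ((P : Subgroup G) : Set G) → ∀ x ∈ (P : Subgroup G), g * x * g⁻¹ ∈ (P : Subgroup G) →
      x = 1) →
    ¬ (P : Subgroup G).Normal → Nat.card P = (p ^ n) ^ 3 → Nat.card (Subgroup.center P) = p ^ n →
    commutator P = Subgroup.center P → (p ≠ 2 → ∀ x : P, x ^ p = 1) →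
    Nat.card G ∣ Nat.card (GL (Fin (6 * n)) (ZMod p)) →
    (∀ P' P'' : Sylow p G, P' ≠ P → P'' ≠ P → ∃ x ∈ (P : Subgroup G),
      (P' : Subgroup G).map (MulAut.conj x).toMonoidHom = P'') ∧
    (∀ P' : Sylow p G, P' ≠ P → ∃ x y : G, x ∈ (P : Subgroup G) ∧ (∀ z ∈ (P : Subgroup G), x * z = z * x) ∧
      y ∈ (P' : Subgroup G) ∧ (∀ z ∈ (P' : Subgroup G), y * z = z * y) ∧
      (P : Subgroup G).map (MulAut.conj (x * y * x)).toMonoidHom = P' ∧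
      (P' : Subgroup G).map (MulAut.conj (x * y * x)).toMonoidHom = P) ∧
    (p ^ n = 3 → ∃ h ∈ Subgroup.normalizer ((P : Subgroup G) : Set G),
      h ∈ Subgroup.normalClosure ((P : Subgroup G) : Set G) ∧ ∀ k : ℕ, 0 < k → k < 8 → ∃ x ∈ (P : Subgroup G), ∃ y ∈ (P : Subgroup G),
        (h ^ k * x * (h ^ k)⁻¹ * x⁻¹) * y ≠ y * (h ^ k * x * (h ^ k)⁻¹ * x⁻¹))

/-- (L1a) the action on `W = Q₁/Z` -/
def StL1a : Prop :=
  ∀ {K : Type u} [Field K] [StarRing K] {p n : ℕ}, HypK K p n →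
    ∀ (Γ : Subgroup (MulAut (Q1 K))) (D : Subgroup (MulAut (UG K))), Par p (Q1 K) Γ D →
    (p ^ n ≠ 2 → HasTor D (fun t => t) (fun t => t⁻¹)) →
    HasTor D (fun t => t * (star t)⁻¹) (fun t => t ^ 2 * (star t)⁻¹) ∧
    (∀ l ∈ Lam1 K, ∃ γ ∈ Γ, ∀ e : Q1 K, ((γ e : Q1 K) : UG K).r = ((l e : Q1 K) : UG K).r ∧
      ((γ e : Q1 K) : UG K).u1 = ((l e : Q1 K) : UG K).u1 ∧ ((γ e : Q1 K) : UG K).b = ((l e : Q1 K) : UG K).b) ∧
    (∀ γ ∈ Γ, ∃ l ∈ Lam1 K, ∃ d ∈ D, ∃ δ : MulAut (Q1 K), IsR d δ ∧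
      ∀ e : Q1 K, ((γ e : Q1 K) : UG K).r = (((l * δ) e : Q1 K) : UG K).r ∧
      ((γ e : Q1 K) : UG K).u1 = (((l * δ) e : Q1 K) : UG K).u1 ∧
      ((γ e : Q1 K) : UG K).b = (((l * δ) e : Q1 K) : UG K).b)

/-- (L1) -/
def StL1 : Prop :=
  ∀ {K : Type u} [Field K] [StarRing K] {p n : ℕ}, HypK K p n →
    ∀ (Γ : Subgroup (MulAut (Q1 K))) (D : Subgroup (MulAut (UG K))), Par p (Q1 K) Γ D →
    (p ^ n ≠ 2 → HasTor D (fun t => t) (fun t => t⁻¹)) →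
    HasTor D (fun t => t * (star t)⁻¹) (fun t => t ^ 2 * (star t)⁻¹) ∧
    (∀ γ : MulAut (Q1 K), γ ∈ Γ ↔ ∃ l ∈ Lam1 K, ∃ d ∈ D, ∃ δ : MulAut (Q1 K), IsR d δ ∧ γ = l * δ)

/-- (REAL) -/
def StReal : Prop :=
  ∀ {K : Type u} [Field K] [StarRing K] {p n : ℕ} [Fact p.Prime], HypK K p n → ∀ D : Subgroup (MulAut (UG K)),
    D ≤ TT K → (Nat.card D).Coprime p → HasTor D (fun t => t) (fun t => t⁻¹) →
    HasTor D (fun t => t * (star t)⁻¹) (fun t => t ^ 2 * (star t)⁻¹) →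
    ∃ F : FusionSystem (⊤ : Subgroup (UG K)), F.IsSaturated p ∧ F.IsRealizable p ∧
      AF F = (MulAut.conj : UG K →* MulAut (UG K)).range ⊔ D ∧
      (¬ ∀ γ ∈ F.autGroup (Q1 K), NormAut (⊤ : Subgroup (UG K)) γ) ∧
      (¬ ∀ γ ∈ F.autGroup (Q2 K), NormAut (⊤ : Subgroup (UG K)) γ)

/-- (SYL) the Sylow subgroup of `PSU₅(q)` is `UG K` -/
def StSyl : Prop :=
  ∀ {K : Type u} [Field K] [StarRing K] {p n : ℕ} [Fact p.Prime], HypK K p n →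
    ∀ T : Sylow p (Cfsg.PSU 5 K (p ^ n)), Nonempty (↥(T : Subgroup (Cfsg.PSU 5 K (p ^ n))) ≃* UG K)

end Cfsg.Agent.H756.PU
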