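import Cfsg.Agent.H756.PU.AsmGen
import Cfsg.Agent.H756.PU.Stmts

/-!
# S5258: the assembly
-/

set_option autoImplicit false

namespace Cfsg.Agent.H756.PU

open Cfsg Cfsg.FusionSystem Cfsg.Agent.H802

universe u v

/-- all the pieces except the transport to `UG K` -/
structure Pieces : Prop where
  ess : StEss.{u}
  ovr : StOver.{u}
  con : StCon.{u}
  tiEss : StTIEss.{u}
  same : StSame.{u}
  twist : StTwist.{u}
  compl : StCompl.{u}
  grp : StGrp.{u}
  e1 : StE1.{u}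
  e2 : StE2.{u}
  e3a : StE3a.{u}
  e3b : StE3b.{u}
  e3c : StE3c.{u}
  e3d : StE3d.{u}
  e3e : StE3e.{u}
  e3f : StE3f.{u}
  e4a : StE4a.{u}
  e4b : StE4b.{u}
  e4c : StE4c.{u}
  ti : StTI.{u}
  pos : StPos.{u}
  l2 : StL2.{u}
  l1 : StL1.{u}
  real : StReal.{u}

section

variable {K : Type u} [Field K] [StarRing K] {p n : ℕ}

theorem YY_le_sup : YY K ≤ Y1 K ⊔ VV K := by
  rintro y ⟨h1, h2⟩
  have hc : y.c + star y.c = 0 := by
    have := y.hc
    rw [h2] at this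
    simpa using this
  let v : UG K := { r := 0, u1 := 0, u2 := 0, a := 0, b := 0, c := y.c, ha := by simp, hc := by simpa using hc }
  have hv : v ∈ VV K := ⟨rfl, rfl, rfl⟩
  have hg : y * v⁻¹ ∈ Y1 K := by
    refine ⟨⟨?_, ?_⟩, ?_⟩
    · simp [v, h2]
    · simp [v, hc]
    · show (y * v⁻¹).r = 0
      simp [v, h1]
  have : y = (y * v⁻¹) * v := by group
  rw [this]
  exact Subgroup.mul_mem _ (Subgroup.mem_sup_left hg) (Subgroup.mem_sup_right hv)

theorem finite_UG (H : Pieces.{u}) (hK : HypK K p n) : Finite (UG K) := by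
  apply Nat.finite_of_card_ne_zero
  rw [(H.grp hK).1]
  exact pow_ne_zero _ (pow_ne_zero _ hK.pp.ne_zero)

theorem ess_cases (H : Pieces.{u}) (hK : HypK K p n) {F : FusionSystem (⊤ : Subgroup (UG K))}
    (hF : F.IsSaturated p) {E : Subgroup (UG K)} (hE : F.IsEssential p E) : E = Q1 K ∨ E = Q2 K := by
  have : Fact p.Prime := ⟨hK.pp⟩
  have hfin : Finite (UG K) := finite_UG H hK
  have hS : IsPGroup p (⊤ : Subgroup (UG K)) := (H.grp hK).2.1
  have he : Ess (⊤ : Subgroup (UG K)) E p (F.autGroup E) := H.ess F E hS hF hE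
  have hZ2 : Z2 K ≤ E := H.e1 hK he
  have ovr : ∀ Q : Subgroup (UG K), (Q = Q1 K ∨ Q = Q2 K) → Q ≤ E → Inv (F.autGroup E) Q → E = Q := by
    intro Q hQ hQE hI
    obtain ⟨hTI, hC, -, hchar⟩ := H.ti hK Q hQ
    have hn := top_le_normalizer_of_char hchar
    exact H.ovr F Q E hS hF hE hQE hn hC
      (hTI _ (autInducedBy_le_autGroup F le_top) (syl_of_normal hS hF hn)) hI
  by_cases hZ : Inv (F.autGroup E) (ZS K)
  · by_cases hQ1 : Q1 K ≤ E
    · left
      exact ovr _ (Or.inl rfl) hQ1 (H.e3f hK he hZ hQ1)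
    · right
      have h1 : ¬ E ≤ QV K := H.e3a hK he hZ2 hZ hQ1
      have h2 : Y1 K ≤ E := H.e3b hK he hZ2 hZ hQ1 h1
      have h3 : VV K ≤ E := H.e3c hK he hZ2 hZ hQ1 h1 h2
      have h4 : YY K ≤ E := YY_le_sup.trans (sup_le h2 h3)
      have h5 : Inv (F.autGroup E) (Z2 K) := H.e3d hK he h4 hZ h1
      obtain ⟨h6, h7⟩ := H.e3e hK he h4 h5
      exact ovr _ (Or.inr rfl) h6 h7
  · right
    have hV : VV K ≤ E := by
      by_contra hV
      exact hZ (H.e2 hK he hZ2 hV)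
    by_cases hQ2 : E ≤ Q2 K
    · exact H.e4a hK he hV hQ2
    · have h4 : YY K ≤ E := H.e4b hK he hV hQ2 hZ
      obtain ⟨h6, h7⟩ := H.e4c hK he h4 hQ2 hZ
      exact ovr _ (Or.inr rfl) h6 h7

theorem par_of (H : Pieces.{u}) (hK : HypK K p n) {F : FusionSystem (⊤ : Subgroup (UG K))}
    (hF : F.IsSaturated p) {Q : Subgroup (UG K)} (hQ : Q = Q1 K ∨ Q = Q2 K) (hE : F.IsEssential p Q)
    {D : Subgroup (MulAut (UG K))} (hD : D ≤ TT K) (hDc : (Nat.card D).Coprime p)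
    (hAF : AF F = (MulAut.conj : UG K →* MulAut (UG K)).range ⊔ D) : Par p Q (F.autGroup Q) D := by
  have : Fact p.Prime := ⟨hK.pp⟩
  have hfin : Finite (UG K) := finite_UG H hK
  have hS : IsPGroup p (⊤ : Subgroup (UG K)) := (H.grp hK).2.1
  obtain ⟨hTI, hC, -, hchar⟩ := H.ti hK Q hQ
  have hn := top_le_normalizer_of_char hchar
  refine ⟨autInducedBy_le_autGroup F le_top, syl_of_normal hS hF hn, not_norm_of_ess (H.ess F Q hS hF hE),
    hD, hDc, ?_, ?_⟩
  · intro d hd γ hγ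
    have h1 : d ∈ AF F := by
      rw [hAF]
      exact Subgroup.mem_sup_right hd
    exact res_mem h1 hγ
  · intro γ hγ hN
    obtain ⟨β, hβ, he⟩ := ext_mem hS hF hn hγ hN
    rw [hAF] at hβ
    obtain ⟨x, d, hd, rfl⟩ := mem_range_sup hβ
    exact ⟨x, d, hd, fun e => he e⟩

theorem hasTor_two (hK : HypK K p n) (h2 : p ^ n = 2) {D : Subgroup (MulAut (UG K))}
    (h : HasTor D (fun t => t * (star t)⁻¹) (fun t => t ^ 2 * (star t)⁻¹)) :
    HasTor D (fun t => t) (fun _ => 1) := by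
  have hfin : Finite K := hK.fin
  intro t ht α hα
  have hstar : ∀ x : K, star x = x ^ 2 := fun x => by rw [hK.star_eq, h2]
  have h3 : ∀ x : K, x ≠ 0 → x ^ 3 = 1 := by
    intro x hx
    have hc : Nat.card K = 4 := by rw [hK.card, h2]; norm_num
    have := Fintype.ofFinite K
    have h4 := FiniteField.pow_card_sub_one_eq_one x hx
    rw [← Nat.card_eq_fintype_card, hc] at h4
    exact h4
  refine h t⁻¹ (inv_ne_zero ht) α ?_
  have e1 : t⁻¹ * (star t⁻¹)⁻¹ = t := by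
    rw [hstar]
    field_simp
  have e2 : t⁻¹ ^ 2 * (star t⁻¹)⁻¹ = 1 := by
    rw [hstar]
    field_simp
  show IsTor α (t⁻¹ * (star t⁻¹)⁻¹) (t⁻¹ ^ 2 * (star t⁻¹)⁻¹) (RingEquiv.refl K)
  rw [e1, e2]
  exact hα

theorem tor_of_par (H : Pieces.{u}) (hK : HypK K p n) {Γ1 : Subgroup (MulAut (Q1 K))} {Γ2 : Subgroup (MulAut (Q2 K))}
    {D : Subgroup (MulAut (UG K))} (h1 : Par p (Q1 K) Γ1 D) (h2 : Par p (Q2 K) Γ2 D) :
    HasTor D (fun t => t) (fun t => t⁻¹) ∧ HasTor D (fun t => t * (star t)⁻¹) (fun t => t ^ 2 * (star t)⁻¹) ∧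
    (∀ γ : MulAut (Q1 K), γ ∈ Γ1 ↔ ∃ l ∈ Lam1 K, ∃ d ∈ D, ∃ δ : MulAut (Q1 K), IsR d δ ∧ γ = l * δ) ∧
    (∀ γ : MulAut (Q2 K), γ ∈ Γ2 ↔ ∃ l ∈ Lam2 K, ∃ d ∈ D, ∃ δ : MulAut (Q2 K), IsR d δ ∧ γ = l * δ) := by
  by_cases hq : p ^ n = 2
  · obtain ⟨a1, a2⟩ := H.l1 hK Γ1 D h1 (fun hne => absurd hq hne)
    obtain ⟨b1, b2⟩ := H.l2 hK Γ2 D h2 (fun _ => hasTor_two hK hq a1)
    exact ⟨b1, a1, a2, b2⟩
  · obtain ⟨b1, b2⟩ := H.l2 hK Γ2 D h2 (fun he => absurd he hq)
    obtain ⟨a1, a2⟩ := H.l1 hK Γ1 D h1 (fun _ => b1)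
    exact ⟨b1, a1, a2, b2⟩

theorem real_of_tt (H : Pieces.{u}) (hK : HypK K p n) {F : FusionSystem (⊤ : Subgroup (UG K))}
    (hF : F.IsSaturated p) (hE1 : F.IsEssential p (Q1 K)) (hE2 : F.IsEssential p (Q2 K))
    {D : Subgroup (MulAut (UG K))} (hD : D ≤ TT K) (hDc : (Nat.card D).Coprime p)
    (hAF : AF F = (MulAut.conj : UG K →* MulAut (UG K)).range ⊔ D) : F.IsRealizable p := by
  have : Fact p.Prime := ⟨hK.pp⟩
  have hfin : Finite (UG K) := finite_UG H hK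
  have hS : IsPGroup p (⊤ : Subgroup (UG K)) := (H.grp hK).2.1
  have P1 := par_of H hK hF (Or.inl rfl) hE1 hD hDc hAF
  have P2 := par_of H hK hF (Or.inr rfl) hE2 hD hDc hAF
  obtain ⟨t1, t2, g1, g2⟩ := tor_of_par H hK P1 P2
  obtain ⟨F', hF', hR, hAF', hN1, hN2⟩ := H.real hK D hD hDc t1 t2
  have ess' : ∀ Q : Subgroup (UG K), (Q = Q1 K ∨ Q = Q2 K) →
      (¬ ∀ γ ∈ F'.autGroup Q, NormAut (⊤ : Subgroup (UG K)) γ) → F'.IsEssential p Q := by
    intro Q hQ hn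
    obtain ⟨hTI, hC, hne, hchar⟩ := H.ti hK Q hQ
    have hnn := top_le_normalizer_of_char hchar
    exact H.tiEss F' Q hS hF' le_top hne hnn hC
      (hTI _ (autInducedBy_le_autGroup F' le_top) (syl_of_normal hS hF' hnn)) hn
  have P1' := par_of H hK hF' (Or.inl rfl) (ess' _ (Or.inl rfl) hN1) hD hDc hAF'
  have P2' := par_of H hK hF' (Or.inr rfl) (ess' _ (Or.inr rfl) hN2) hD hDc hAF'
  obtain ⟨-, -, g1', g2'⟩ := tor_of_par H hK P1' P2'
  have hsame := H.same F F' (Q1 K) (Q2 K) hS hF hF' le_top le_top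
    (fun E hE => ess_cases H hK hF hE) (fun E hE => ess_cases H hK hF' hE)
    (autGroup_top_eq_of_AF (hAF.trans hAF'.symm))
    (Subgroup.ext fun γ => (g1 γ).trans (g1' γ).symm) (Subgroup.ext fun γ => (g2 γ).trans (g2' γ).symm)
  rw [fusionSystem_ext hsame]
  exact hR

theorem real_of (H : Pieces.{u}) (hK : HypK K p n) {F : FusionSystem (⊤ : Subgroup (UG K))}
    (hF : F.IsSaturated p) : F.IsRealizable p := by
  have : Fact p.Prime := ⟨hK.pp⟩
  have hfin : Finite (UG K) := finite_UG H hK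
  have hS : IsPGroup p (⊤ : Subgroup (UG K)) := (H.grp hK).2.1
  have con : ∀ Q : Subgroup (UG K), (Q = Q1 K ∨ Q = Q2 K) → (∀ E, F.IsEssential p E → E = Q) →
      F.IsRealizable p := by
    intro Q hQ hu
    obtain ⟨hTI, hC, hne, hchar⟩ := H.ti hK Q hQ
    exact H.con F Q hS hF le_top (top_le_normalizer_of_char hchar) hC hu (inv_top_of_char hchar)
  by_cases hE1 : F.IsEssential p (Q1 K)
  · by_cases hE2 : F.IsEssential p (Q2 K)
    · obtain ⟨D0, hD0, hD0e⟩ := H.compl F hS hF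
      obtain ⟨θ, hθ⟩ := H.pos hK D0 hD0
      obtain ⟨F', hF', hR, hAF', hess⟩ := H.twist F θ hF
      have hc1 := (H.ti hK (Q1 K) (Or.inl rfl)).2.2.2
      have hc2 := (H.ti hK (Q2 K) (Or.inr rfl)).2.2.2
      have hE1' : F'.IsEssential p (Q1 K) := by
        have := (hess (Q1 K)).1 hE1
        rwa [hc1] at this
      have hE2' : F'.IsEssential p (Q2 K) := by
        have := (hess (Q2 K)).1 hE2
        rwa [hc2] at this
      apply hR
      refine real_of_tt H hK hF' hE1' hE2' (D := D0.map (MulAut.conj θ).toMonoidHom) ?_ ?_ ?_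
      · rintro _ ⟨d, hd, rfl⟩
        exact hθ d hd
      · have : Nat.card (D0.map (MulAut.conj θ).toMonoidHom) = Nat.card D0 :=
          (Nat.card_congr (D0.equivMapOfInjective _ (MulAut.conj θ).injective).toEquiv).symm
        rwa [this]
      · rw [hAF', ← hD0e, Subgroup.map_sup, map_conj_range]
    · refine con (Q1 K) (Or.inl rfl) fun E hE => ?_
      rcases ess_cases H hK hF hE with h | h
      · exact h
      · subst h
        exact absurd hE hE2
  · refine con (Q2 K) (Or.inr rfl) fun E hE => ?_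
    rcases ess_cases H hK hF hE with h | h
    · subst h
      exact absurd hE hE1
    · exact h

end

/-- the star operation `x ↦ x^(p^n)` -/
@[reducible] noncomputable def starOf (K : Type v) [Field K] [Finite K] (p n : ℕ) [Fact p.Prime] [CharP K p]
    (hK : Nat.card K = (p ^ n) ^ 2) : StarRing K where
  star x := x ^ p ^ n
  star_involutive x := by
    have := Fintype.ofFinite K
    show (x ^ p ^ n) ^ p ^ n = x
    rw [← pow_mul, ← sq, ← hK, Nat.card_eq_fintype_card]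
    exact FiniteField.pow_card x
  star_mul x y := by
    show (x * y) ^ p ^ n = y ^ p ^ n * x ^ p ^ n
    rw [mul_pow, mul_comm]
  star_add x y := add_pow_char_pow x y p n

theorem final_of (H : Pieces.{v}) (hTr : StTrans.{u, v}) (hSyl : StSyl.{v})
    {Ω : Type u} [Group Ω] {S : Subgroup Ω} [Finite S] (p : ℕ) [Fact p.Prime] (F : Cfsg.FusionSystem S)
    (hF : F.IsSaturated p) {K : Type v} [Field K] [Fintype K] [CharP K p] (n : ℕ) (hn : 1 ≤ n)
    (hK : Fintype.card K = (p ^ n) ^ 2) (T : Sylow p (Cfsg.PSU 5 K (p ^ n)))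
    (e : ↥S ≃* ↥(T : Subgroup (Cfsg.PSU 5 K (p ^ n)))) : F.IsRealizable p := by
  have hK' : Nat.card K = (p ^ n) ^ 2 := by rw [Nat.card_eq_fintype_card]; exact hK
  let _ : StarRing K := starOf K p n hK'
  have hyp : HypK K p n := ⟨Fact.out, hn, inferInstance, hK', inferInstance, fun x => rfl⟩
  obtain ⟨e'⟩ := hSyl hyp T
  obtain ⟨F', hF', hR⟩ := hTr F (e.trans e') hF
  exact hR (real_of H hyp hF')

end Cfsg.Agent.H756.PU
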