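import Mathlib

/-!
# S5258: the concrete Sylow `p`-subgroup `UG K` of `SU₅(K)`

`K` is a field with an involution `star` (`x ↦ x^q`). The elements are the matrices (block sizes 2,1,2)
`[1, u, v; 0, 1, -u*; 0, 0, 1] · diag(A, 1, A^{-*})`, `A = [1, r; 0, 1]`, `u = (u1, u2)`, `v = [a, b; d, c]`,
`v + v* + u u* = 0`.
-/

set_option autoImplicit false

namespace Cfsg.Agent.H756.PU

universe u

/-- the unipotent group -/
@[ext] structure UG (K : Type u) [Field K] [StarRing K] where
  r : K
  u1 : K
  u2 : K
  a : K
  b : K
  c : K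
  ha : a + star a + u1 * star u1 = 0
  hc : c + star c + u2 * star u2 = 0

namespace UG

variable {K : Type u} [Field K] [StarRing K]

/-- the entry `v₂₁` -/
def d (x : UG K) : K := - star x.b - x.u2 * star x.u1

instance : Mul (UG K) := ⟨fun x y =>
  { r := x.r + y.r
    u1 := x.u1 + y.u1 + x.r * y.u2
    u2 := x.u2 + y.u2
    a := x.a + y.a + x.r * y.d + star x.r * y.b + x.r * star x.r * y.c
      - x.u1 * (star y.u1 + star x.r * star y.u2)
    b := x.b + y.b + x.r * y.c - x.u1 * star y.u2
    c := x.c + y.c - x.u2 * star y.u2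
    ha := by
      have h1 := x.ha
      have h2 := y.ha
      have h3 := y.hc
      simp only [d, star_add, star_sub, star_mul', star_star, star_neg]
      linear_combination h1 + h2 + x.r * star x.r * h3
    hc := by
      have h1 := x.hc
      have h2 := y.hc
      simp only [star_add, star_sub, star_mul', star_star]
      linear_combination h1 + h2 }⟩

instance : One (UG K) := ⟨{ r := 0, u1 := 0, u2 := 0, a := 0, b := 0, c := 0, ha := by simp, hc := by simp }⟩

instance : Inv (UG K) := ⟨fun x =>
  { r := - x.r
    u1 := - x.u1 + x.r * x.u2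
    u2 := - x.u2
    a := star x.a - x.r * star x.b - star x.r * star x.d + x.r * star x.r * star x.c
    b := star x.d - x.r * star x.c
    c := star x.c
    ha := by
      have h1 := x.ha
      have h3 := x.hc
      simp only [d, star_add, star_sub, star_mul', star_star, star_neg]
      linear_combination h1 + x.r * star x.r * h3
    hc := by
      have h1 := x.hc
      simp only [star_star, star_neg]
      linear_combination h1 }⟩

@[simp] theorem mul_r (x y : UG K) : (x * y).r = x.r + y.r := rfl
@[simp] theorem mul_u1 (x y : UG K) : (x * y).u1 = x.u1 + y.u1 + x.r * y.u2 := rfl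
@[simp] theorem mul_u2 (x y : UG K) : (x * y).u2 = x.u2 + y.u2 := rfl
theorem mul_a (x y : UG K) : (x * y).a = x.a + y.a + x.r * y.d + star x.r * y.b + x.r * star x.r * y.c
      - x.u1 * (star y.u1 + star x.r * star y.u2) := rfl
theorem mul_b (x y : UG K) : (x * y).b = x.b + y.b + x.r * y.c - x.u1 * star y.u2 := rfl
@[simp] theorem mul_c (x y : UG K) : (x * y).c = x.c + y.c - x.u2 * star y.u2 := rfl
@[simp] theorem one_r : (1 : UG K).r = 0 := rfl
@[simp] theorem one_u1 : (1 : UG K).u1 = 0 := rfl
@[simp] theorem one_u2 : (1 : UG K).u2 = 0 := rfl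
@[simp] theorem one_a : (1 : UG K).a = 0 := rfl
@[simp] theorem one_b : (1 : UG K).b = 0 := rfl
@[simp] theorem one_c : (1 : UG K).c = 0 := rfl
@[simp] theorem inv_r (x : UG K) : (x⁻¹).r = - x.r := rfl
@[simp] theorem inv_u1 (x : UG K) : (x⁻¹).u1 = - x.u1 + x.r * x.u2 := rfl
@[simp] theorem inv_u2 (x : UG K) : (x⁻¹).u2 = - x.u2 := rfl
theorem inv_a (x : UG K) : (x⁻¹).a =
    star x.a - x.r * star x.b - star x.r * star x.d + x.r * star x.r * star x.c := rfl
theorem inv_b (x : UG K) : (x⁻¹).b = star x.d - x.r * star x.c := rfl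
@[simp] theorem inv_c (x : UG K) : (x⁻¹).c = star x.c := rfl

instance : Group (UG K) where
  mul_assoc x y z := by
    ext
    · simp only [mul_r]; ring
    · simp only [mul_r, mul_u1, mul_u2]; ring
    · simp only [mul_u2]; ring
    · simp only [mul_r, mul_u1, mul_u2, mul_a, mul_b, mul_c, d, star_add, star_sub, star_mul', star_star]
      linear_combination (x.r * star y.r) * z.hc
    · simp only [mul_r, mul_u1, mul_u2, mul_b, mul_c, star_add]
      ring
    · simp only [mul_u2, mul_c, star_add]; ring
  one_mul x := by
    ext <;> simp [mul_a, mul_b, d]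
  mul_one x := by
    ext <;> simp [mul_a, mul_b, d]
  inv_mul_cancel x := by
    have h1 := x.ha
    have h3 := x.hc
    ext
    · simp
    · simp only [mul_u1, inv_u1, inv_r, one_u1]; ring
    · simp
    · simp only [mul_a, inv_a, inv_r, inv_u1, one_a, d, star_add, star_sub, star_mul', star_star, star_neg]
      linear_combination h1 + x.r * star x.r * h3
    · simp only [mul_b, inv_b, inv_r, inv_u1, one_b, d, star_add, star_sub, star_mul', star_star, star_neg]
      linear_combination (-x.r) * h3
    · simp only [mul_c, inv_c, inv_u2, one_c]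
      linear_combination h3

end UG

end Cfsg.Agent.H756.PU
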